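import Groth.Agent.PSLib.Basic
import Mathlib.RingTheory.MvPowerSeries.Rename
import Mathlib.RingTheory.MvPowerSeries.Derivative

/-!
The ideal of variables of a power series ring in finitely many variables, and the ideal generated by
series with a given linear part.
-/

namespace Groth.Agent.PSQuad

open Finsupp

universe u v

variable {σ : Type v} [Finite σ] {R : Type u} [CommRing R]

/-- The ideal of the variables. -/
noncomputable def vars (σ : Type v) (R : Type u) [CommRing R] : Ideal (MvPowerSeries σ R) :=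
  Ideal.span (Set.range MvPowerSeries.X)

theorem mem_pow_iff {N : ℕ} {f : MvPowerSeries σ R} :
    f ∈ vars σ R ^ N ↔ ∀ d, degree d < N → MvPowerSeries.coeff d f = 0 := by
  classical
  have : Fintype σ := Fintype.ofFinite σ
  let e : σ ≃ Fin (Fintype.card σ) := Fintype.equivFin σ
  let ρ := MvPowerSeries.renameEquiv R e
  have hρ : (vars σ R).map (ρ : MvPowerSeries σ R →+* _) = PSLib.vars (Fintype.card σ) R := by
    rw [vars, PSLib.vars, Ideal.map_span, ← Set.range_comp]
    congr 1
    refine (e.surjective.range_comp MvPowerSeries.X).symm.trans ?_ |>.symm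
    exact congrArg Set.range (funext fun i => (MvPowerSeries.rename_X _ i).symm)
  have hmem : f ∈ vars σ R ^ N ↔ ρ f ∈ PSLib.vars (Fintype.card σ) R ^ N := by
    rw [← hρ, ← Ideal.map_pow]
    exact ⟨Ideal.mem_map_of_mem _, fun h => by
      obtain ⟨g, hg, he⟩ := (Ideal.mem_map_iff_of_surjective _ ρ.surjective).1 h
      exact ρ.injective he ▸ hg⟩
  rw [hmem, PSLib.mem_pow_iff]
  have hco : ∀ d : σ →₀ ℕ, MvPowerSeries.coeff (embDomain e.toEmbedding d) (ρ f) =
      MvPowerSeries.coeff d f := fun d => MvPowerSeries.coeff_embDomain_rename e.toEmbedding f d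
  have hdeg : ∀ d : σ →₀ ℕ, degree (embDomain e.toEmbedding d) = degree d := fun d => by
    simp [Finsupp.degree_eq_sum, Finsupp.embDomain_eq_mapDomain, ← e.sum_comp,
      Finsupp.mapDomain_apply e.injective]
  constructor
  · intro h d hd
    rw [← hco]
    exact h _ (by rwa [hdeg])
  · intro h d hd
    obtain ⟨d', rfl⟩ : ∃ d', embDomain e.toEmbedding d' = d :=
      ⟨d.embDomain e.symm.toEmbedding, by ext i; simp [Finsupp.embDomain_eq_mapDomain,
        ← Finsupp.mapDomain_comp]⟩
    rw [hco]
    exact h _ (by rwa [← hdeg])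

theorem mem_vars_iff {f : MvPowerSeries σ R} :
    f ∈ vars σ R ↔ MvPowerSeries.coeff 0 f = 0 := by
  rw [← pow_one (vars σ R), mem_pow_iff]
  simp only [Nat.lt_one_iff, degree_eq_zero_iff, forall_eq]

theorem mem_sq_iff {f : MvPowerSeries σ R} :
    f ∈ vars σ R ^ 2 ↔ MvPowerSeries.coeff 0 f = 0 ∧
      ∀ i, MvPowerSeries.coeff (single i 1) f = 0 := by
  rw [mem_pow_iff]
  refine ⟨fun h => ⟨h 0 (by simp), fun i => h _ (by simp [degree_single])⟩, fun ⟨h0, h1⟩ d hd => ?_⟩
  rcases Nat.lt_or_ge (degree d) 1 with h | h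
  · rw [(degree_eq_zero_iff d).1 (by omega)]
    exact h0
  · obtain ⟨i, hi⟩ : ∃ i, d i ≠ 0 := by
      by_contra hc
      push_neg at hc
      rw [show d = 0 from Finsupp.ext hc, map_zero] at h
      omega
    have hle : single i 1 ≤ d := Finsupp.single_le_iff.2 (Nat.one_le_iff_ne_zero.2 hi)
    have hd' : degree (d - single i 1) = 0 := by
      have := congrArg degree (tsub_add_cancel_of_le hle)
      rw [map_add, degree_single] at this
      omega
    rw [← tsub_add_cancel_of_le hle, (degree_eq_zero_iff _).1 hd', zero_add]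
    exact h1 i

theorem vars_le_jacobson : vars σ R ≤ Ideal.jacobson ⊥ := by
  intro f hf
  refine Ideal.mem_jacobson_bot.2 fun g => ?_
  rw [MvPowerSeries.isUnit_iff_constantCoeff, map_add, map_mul, map_one,
    ← MvPowerSeries.coeff_zero_eq_constantCoeff_apply, mem_vars_iff.1 hf, zero_mul, zero_add]
  exact isUnit_one

/-- Series without constant term whose linear parts form an invertible matrix generate the ideal of
variables. -/
theorem span_eq_vars [Fintype σ] [DecidableEq σ] (g : σ → MvPowerSeries σ R)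
    (h0 : ∀ i, MvPowerSeries.coeff 0 (g i) = 0)
    (hM : IsUnit (Matrix.of fun i j => MvPowerSeries.coeff (single j 1) (g i)).det) :
    Ideal.span (Set.range g) = vars σ R := by
  refine le_antisymm (Ideal.span_le.2 (Set.range_subset_iff.2 fun i => mem_vars_iff.2 (h0 i))) ?_
  set M := Matrix.of fun i j => MvPowerSeries.coeff (single j 1) (g i) with hMdef
  refine Submodule.le_of_le_smul_of_le_jacobson_bot (Submodule.fg_span (Set.finite_range _))
    vars_le_jacobson ?_
  rw [smul_eq_mul, ← sq]
  refine Ideal.span_le.2 (Set.range_subset_iff.2 fun j => ?_)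
  refine Submodule.mem_sup.2 ⟨∑ i, MvPowerSeries.C (M⁻¹ j i) * g i,
    Ideal.sum_mem _ fun i _ => Ideal.mul_mem_left _ _ (Ideal.subset_span ⟨i, rfl⟩),
    MvPowerSeries.X j - ∑ i, MvPowerSeries.C (M⁻¹ j i) * g i, mem_sq_iff.2 ⟨?_, fun l => ?_⟩, by abel⟩
  · simp only [map_sub, map_sum, MvPowerSeries.coeff_C_mul, h0, mul_zero, Finset.sum_const_zero,
      sub_zero, MvPowerSeries.coeff_zero_X]
  · rw [map_sub, map_sum]
    simp only [MvPowerSeries.coeff_C_mul]
    have : (M⁻¹ * M) j l = (1 : Matrix σ σ R) j l := by rw [Matrix.nonsing_inv_mul M hM]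
    rw [Matrix.mul_apply, Matrix.one_apply] at this
    simp only [hMdef, Matrix.of_apply] at this
    rw [this, MvPowerSeries.coeff_X]
    simp [Finsupp.single_left_inj one_ne_zero, eq_comm]

end Groth.Agent.PSQuad
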