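import Groth.Agent.PSQuad.Grad

/-!
Coefficients of a quadratic form.
-/

namespace Groth.Agent.PSQuad

open Finsupp

universe u

variable {R : Type u} [CommRing R] {N : ℕ}

theorem coeff_quadPoly_pair (q : Fin N → Fin N → R) {i j : Fin N} (hij : i ≤ j) :
    (VanCyc.quadPoly q).coeff (single i 1 + single j 1) = q i j := by
  classical
  simp only [VanCyc.quadPoly, MvPolynomial.coeff_sum]
  have key : ∀ a b : Fin N, a ≤ b → (single a 1 + single b 1 : Fin N →₀ ℕ) = single i 1 + single j 1 →
      a = i ∧ b = j := by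
    intro a b hab h
    rcases (Finsupp.single_add_single_eq_single_add_single one_ne_zero one_ne_zero).1 h with
      ⟨h1, h2⟩ | ⟨-, h1, h2⟩ | ⟨h1, -⟩
    · exact ⟨h1, h2⟩
    · constructor <;> omega
    · omega
  rw [Finset.sum_eq_single i, Finset.sum_eq_single j]
  · simp [hij, MvPolynomial.X, MvPolynomial.C_mul_monomial, MvPolynomial.monomial_mul]
  · intro b _ hb
    split_ifs with h
    · rw [MvPolynomial.X, MvPolynomial.X, MvPolynomial.C_mul_monomial, MvPolynomial.monomial_mul,
        MvPolynomial.coeff_monomial, if_neg fun he => hb (key _ _ h he).2]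
    · simp
  · simp
  · intro a _ ha
    refine Finset.sum_eq_zero fun b _ => ?_
    split_ifs with h
    · rw [MvPolynomial.X, MvPolynomial.X, MvPolynomial.C_mul_monomial, MvPolynomial.monomial_mul,
        MvPolynomial.coeff_monomial, if_neg fun he => ha (key _ _ h he).1]
    · simp
  · simp

theorem coeff_quadPoly_eq_zero (q : Fin N → Fin N → R) {d : Fin N →₀ ℕ} (hd : degree d ≠ 2) :
    (VanCyc.quadPoly q).coeff d = 0 := by
  classical
  simp only [VanCyc.quadPoly, MvPolynomial.coeff_sum]
  refine Finset.sum_eq_zero fun a _ => Finset.sum_eq_zero fun b _ => ?_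
  split_ifs with h
  · rw [MvPolynomial.X, MvPolynomial.X, MvPolynomial.C_mul_monomial, MvPolynomial.monomial_mul,
      MvPolynomial.coeff_monomial, if_neg]
    rintro rfl
    exact hd (by simp [map_add, degree_single])
  · simp

/-- The monomials of degree at most two. -/
theorem degree_le_two_cases {d : Fin N →₀ ℕ} (hd : degree d ≤ 2) :
    d = 0 ∨ (∃ i, d = single i 1) ∨ ∃ i j, i ≤ j ∧ d = single i 1 + single j 1 := by
  have key : ∀ d : Fin N →₀ ℕ, d ≠ 0 → ∃ i d', d = single i 1 + d' ∧ degree d' + 1 = degree d := by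
    intro d h
    obtain ⟨i, hi⟩ : ∃ i, d i ≠ 0 := by
      by_contra hc
      push_neg at hc
      exact h (Finsupp.ext hc)
    have hle : single i 1 ≤ d := Finsupp.single_le_iff.2 (Nat.one_le_iff_ne_zero.2 hi)
    refine ⟨i, d - single i 1, (add_tsub_cancel_of_le hle).symm, ?_⟩
    have := congrArg degree (tsub_add_cancel_of_le hle)
    rw [map_add, degree_single] at this
    exact this
  by_cases h : d = 0
  · exact Or.inl h
  obtain ⟨i, d', rfl, hd'⟩ := key d h
  by_cases h' : d' = 0
  · exact Or.inr (Or.inl ⟨i, by rw [h', add_zero]⟩)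
  obtain ⟨j, d'', rfl, hd''⟩ := key d' h'
  have : d'' = 0 := (degree_eq_zero_iff _).1 (by omega)
  subst this
  rw [add_zero]
  rcases le_total i j with hij | hij
  · exact Or.inr (Or.inr ⟨i, j, hij, rfl⟩)
  · exact Or.inr (Or.inr ⟨j, i, hij, add_comm _ _⟩)

theorem quadPart_apply {f : MvPowerSeries (Fin N) R} {i j : Fin N} (hij : i ≤ j) :
    VanCyc.quadPart f i j = MvPowerSeries.coeff (single i 1 + single j 1) f := by
  rcases hij.lt_or_eq with h | rfl
  · simp [VanCyc.quadPart, h.ne, h]
  · simp [VanCyc.quadPart, ← single_add]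

theorem polarMatrix_congr {q q' : Fin N → Fin N → R} (h : ∀ i j, i ≤ j → q i j = q' i j) :
    VanCyc.polarMatrix q = VanCyc.polarMatrix q' := by
  ext i j
  simp only [VanCyc.polarMatrix]
  rcases lt_trichotomy i j with hij | rfl | hij
  · simp [hij.ne, hij, h i j hij.le]
  · simp [h i i le_rfl]
  · simp [hij.ne', not_lt.2 hij.le, h j i hij.le]

end Groth.Agent.PSQuad
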