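import Groth.Agent.PSQuad.Vars
import Groth.Prelude.Def_QuadSing

/-!
The gradient of a series with non-degenerate quadratic part.
-/

namespace Groth.Agent.PSQuad

open Finsupp

universe u

theorem coeff_zero_pderiv {σ : Type*} {R : Type u} [CommRing R] (f : MvPowerSeries σ R) (i : σ) :
    MvPowerSeries.coeff 0 (MvPowerSeries.pderiv R i f) = MvPowerSeries.coeff (single i 1) f := by
  simp [MvPowerSeries.coeff_pderiv]

theorem coeff_single_pderiv {N : ℕ} {R : Type u} [CommRing R] (f : MvPowerSeries (Fin N) R)
    (i j : Fin N) : MvPowerSeries.coeff (single j 1) (MvPowerSeries.pderiv R i f) =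
      VanCyc.polarMatrix (VanCyc.quadPart f) i j := by
  rw [MvPowerSeries.coeff_pderiv]
  rcases lt_trichotomy i j with h | h | h
  · simp [VanCyc.polarMatrix, VanCyc.quadPart, h, h.ne, add_comm (single j 1)]
  · subst h
    simp [VanCyc.polarMatrix, VanCyc.quadPart, ← single_add]
    ring
  · simp [VanCyc.polarMatrix, VanCyc.quadPart, h, h.ne, h.ne', not_lt.2 h.le]

/-- The partial derivatives generate the ideal of variables. -/
theorem span_pderiv_eq_vars {N : ℕ} {R : Type u} [CommRing R] (f : MvPowerSeries (Fin N) R)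
    (hf : VanCyc.NondegQuadSeries f) :
    Ideal.span (Set.range fun i : Fin N => MvPowerSeries.pderiv R i f) = vars (Fin N) R := by
  refine span_eq_vars _ (fun i => by rw [coeff_zero_pderiv]; exact hf.1.2 i) ?_
  have : (Matrix.of fun i j => MvPowerSeries.coeff (single j 1) (MvPowerSeries.pderiv R i f)) =
      VanCyc.polarMatrix (VanCyc.quadPart f) := by
    ext i j
    exact coeff_single_pderiv f i j
  rw [this]
  exact hf.2

theorem vars_eq_maximalIdeal {σ : Type*} [Finite σ] {k : Type u} [Field k] :
    vars σ k = IsLocalRing.maximalIdeal (MvPowerSeries σ k) := by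
  ext f
  rw [mem_vars_iff, IsLocalRing.mem_maximalIdeal, mem_nonunits_iff,
    MvPowerSeries.isUnit_iff_constantCoeff, isUnit_iff_ne_zero, not_not,
    MvPowerSeries.coeff_zero_eq_constantCoeff_apply]

end Groth.Agent.PSQuad
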