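import Groth.Agent.PSQuad.Grad
import Groth.Agent.PSLib.Regular
import Groth.Agent.NodeLib.Completion
import Groth.Agent.CILib.Basic
import Groth.Agent.CohenLib.PowerSeries
import Mathlib.RingTheory.Nullstellensatz

/-!
Non-degenerate quadratic points of affine hypersurfaces.
-/

namespace Groth.Agent.PSQuad

open Finsupp IsLocalRing

universe u

variable {k : Type u} [Field k] {n : ℕ}

local notation "P" => MvPowerSeries (Fin n) k
local notation "Poly" => MvPolynomial (Fin n) k
local notation "𝔪" => PSLib.vars n k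

theorem vars_eq : vars (Fin n) k = 𝔪 := rfl

/-- If the linear parts span, the matrix of linear parts is invertible. -/
theorem isUnit_det_of_vars_le (g : Fin n → P) (h0 : ∀ i, g i ∈ 𝔪)
    (hle : 𝔪 ≤ Ideal.span (Set.range g) ⊔ 𝔪 ^ 2) :
    IsUnit (Matrix.of fun i j => MvPowerSeries.coeff (single j 1) (g i)).det := by
  classical
  have : ∀ j, ∃ a : Fin n → k, ∀ i,
      ∑ l, a l * MvPowerSeries.coeff (single i 1) (g l) = if i = j then 1 else 0 := by
    intro j
    obtain ⟨s, hs, r, hr, hsum⟩ := Submodule.mem_sup.1 (hle (Ideal.subset_span ⟨j, rfl⟩))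
    obtain ⟨c, rfl⟩ := Ideal.mem_span_range_iff_exists_fun.1 hs
    let a := fun l => MvPowerSeries.constantCoeff (c l)
    refine ⟨a, fun i => ?_⟩
    have h2 : ∑ l, (c l - MvPowerSeries.C (a l)) * g l + r ∈ 𝔪 ^ 2 := by
      refine add_mem (Ideal.sum_mem _ fun l _ => ?_) hr
      rw [sq]
      exact Ideal.mul_mem_mul (by rw [PSLib.mem_vars_iff]; simp [a]) (h0 l)
    have h3 := PSLib.coeff_eq_zero_of_mem_pow 2 _ h2 (single i 1) (by simp [degree_single])
    have h4 := congrArg (MvPowerSeries.coeff (single i 1)) hsum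
    simp only [sub_mul, Finset.sum_sub_distrib, map_add, map_sub, map_sum, MvPowerSeries.coeff_C_mul] at h3
    simp only [map_add, map_sum, MvPowerSeries.coeff_X, Finsupp.single_left_inj one_ne_zero] at h4
    linear_combination h4 - h3
  choose a ha using this
  apply Matrix.isUnit_det_of_left_inverse (B := Matrix.of a)
  ext j i
  simpa [Matrix.mul_apply, Matrix.one_apply, eq_comm] using ha j i

/-- A complete quotient of the power series ring. -/
theorem isLocalRing_quot {h : P} (hh : h ∈ 𝔪) : IsLocalRing (P ⧸ Ideal.span {h}) := by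
  have : Nontrivial (P ⧸ Ideal.span {h}) := Ideal.Quotient.nontrivial_iff.2 fun ht => by
    have h1 : (1 : P) ∈ Ideal.span {h} := ht ▸ Submodule.mem_top
    have h2 := (Ideal.span_le.2 (Set.singleton_subset_iff.2 hh)) h1
    rw [PSLib.mem_vars_iff, map_one] at h2
    exact one_ne_zero h2
  exact IsLocalRing.of_surjective' (Ideal.Quotient.mk _) Ideal.Quotient.mk_surjective

theorem isAdicComplete_quot {h : P} [IsLocalRing (P ⧸ Ideal.span {h})] :
    IsAdicComplete (maximalIdeal (P ⧸ Ideal.span {h})) (P ⧸ Ideal.span {h}) := by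
  obtain ⟨hN, -, -⟩ := CohenLib.isRegular_complete_mvPowerSeries (Λ := k) (Or.inl (Field.toIsField k)) n
  have : IsAdicComplete (maximalIdeal P) P := by rw [PSLib.maximalIdeal_eq_vars]; infer_instance
  exact CILib.isAdicComplete_quotient _

theorem mk_mem_maximalIdeal {h : P} [IsLocalRing (P ⧸ Ideal.span {h})] {x : P} (hx : x ∈ 𝔪) :
    Ideal.Quotient.mk (Ideal.span {h}) x ∈ maximalIdeal (P ⧸ Ideal.span {h}) := by
  rw [← map_maximalIdeal_of_surjective (Ideal.Quotient.mk (Ideal.span {h})) Ideal.Quotient.mk_surjective]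
  exact Ideal.mem_map_of_mem _ (by rwa [PSLib.maximalIdeal_eq_vars])

theorem mem_vars_of_mk_mem {h : P} [IsLocalRing (P ⧸ Ideal.span {h})] {x : P}
    (hx : Ideal.Quotient.mk (Ideal.span {h}) x ∈ maximalIdeal (P ⧸ Ideal.span {h})) : x ∈ 𝔪 := by
  rw [← PSLib.maximalIdeal_eq_vars, mem_maximalIdeal, mem_nonunits_iff]
  exact fun hu => hx (hu.map _)

theorem coe_pderiv_chain (φ : P →ₐ[k] P) (p : Poly) (j : Fin n) :
    MvPowerSeries.pderiv k j (φ p) =
      ∑ i, φ (MvPolynomial.pderiv i p : Poly) * MvPowerSeries.pderiv k j (φ (MvPowerSeries.X i)) := by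
  classical
  induction p using MvPolynomial.induction_on with
  | C a =>
    have : φ (MvPowerSeries.C a) = MvPowerSeries.C a := φ.commutes a
    simp [this]
  | add p q hp hq => simp [map_add, hp, hq, add_mul, Finset.sum_add_distrib]
  | mul_X p l hp =>
    have e : ∀ i, φ ((MvPolynomial.pderiv i (p * MvPolynomial.X l) : Poly) : P) =
        φ ((MvPolynomial.pderiv i p : Poly) : P) * φ (MvPowerSeries.X l) +
          φ (p : P) * if i = l then 1 else 0 := by
      intro i
      rw [MvPolynomial.pderiv_mul, MvPolynomial.coe_add, map_add, MvPolynomial.coe_mul, map_mul,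
        MvPolynomial.coe_X, MvPolynomial.coe_mul, map_mul, MvPolynomial.pderiv_X]
      rcases eq_or_ne i l with rfl | hil
      · simp
      · simp [hil, Ne.symm hil]
    rw [MvPolynomial.coe_mul, map_mul, MvPolynomial.coe_X, Derivation.leibniz, hp, smul_eq_mul, smul_eq_mul]
    simp only [e, add_mul, Finset.sum_add_distrib, mul_ite, mul_one, mul_zero, ite_mul, zero_mul,
      Finset.sum_ite_eq', Finset.mem_univ, if_true, Finset.mul_sum]
    rw [add_comm]
    congr 1
    exact Finset.sum_congr rfl fun i _ => by ring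

/-- Invariance of non-degeneracy under isomorphisms of the quotients. -/
theorem isUnit_det_of_algEquiv (g : Poly) (hg : (g : P) ∈ 𝔪 ^ 2) (h : P) (hh : VanCyc.NondegQuadSeries h)
    (θ : (P ⧸ Ideal.span {(g : P)}) ≃ₐ[k] P ⧸ Ideal.span {h}) :
    IsUnit (VanCyc.polarMatrix (VanCyc.quadPart (g : P))).det := by
  classical
  have hh2 : h ∈ 𝔪 ^ 2 := vars_eq (k := k) (n := n) ▸ mem_sq_iff.2
    ⟨by rw [MvPowerSeries.coeff_zero_eq_constantCoeff_apply]; exact hh.1.1, hh.1.2⟩
  have hle : 𝔪 ^ 2 ≤ 𝔪 := Ideal.pow_le_self two_ne_zero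
  have := isLocalRing_quot (hle hg)
  have := isLocalRing_quot (hle hh2)
  have := isAdicComplete_quot (k := k) (h := h)
  let mg := Ideal.Quotient.mkₐ k (Ideal.span {(g : P)})
  let mh := Ideal.Quotient.mkₐ k (Ideal.span {h})
  choose v hv using fun i => Ideal.Quotient.mk_surjective (θ (mg (MvPowerSeries.X i)))
  have hθm : ∀ {x}, x ∈ maximalIdeal (P ⧸ Ideal.span {(g : P)}) → θ x ∈ maximalIdeal _ := by
    intro x hx hu
    exact hx (by simpa using hu.map θ.symm)
  have hvm : ∀ i, v i ∈ 𝔪 := fun i => mem_vars_of_mk_mem ((hv i).symm ▸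
    hθm (mk_mem_maximalIdeal (Ideal.subset_span ⟨i, rfl⟩)))
  obtain ⟨φ, hφ⟩ := PSLib.exists_algHom (R := k) 𝔪 v hvm
  have hφm : ∀ i, φ (MvPowerSeries.X i) ∈ 𝔪 := fun i => (hφ i).symm ▸ hvm i
  have hcomm : mh.comp φ = (θ : _ →ₐ[k] _).comp mg := by
    refine PSLib.algHom_ext (I := maximalIdeal (P ⧸ Ideal.span {h})) _ _
      (fun i => mk_mem_maximalIdeal (hφm i)) fun i => ?_
    show mh (φ (MvPowerSeries.X i)) = θ (mg (MvPowerSeries.X i))
    rw [hφ]
    exact hv i
  have hc : ∀ f, Ideal.Quotient.mk (Ideal.span {h}) (φ f) = θ (Ideal.Quotient.mk _ f) :=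
    fun f => AlgHom.congr_fun hcomm f
  have hbij : Function.Bijective φ := by
    refine PSLib.bijective_of_first_order φ hφm fun j => ?_
    obtain ⟨a, ha⟩ := Ideal.Quotient.mk_surjective (θ.symm (mh (MvPowerSeries.X j)))
    have ham : a ∈ 𝔪 := mem_vars_of_mk_mem (h := (g : P)) (by
      rw [ha]
      intro hu
      refine mk_mem_maximalIdeal (h := h) (Ideal.subset_span ⟨j, rfl⟩) ?_
      have := hu.map θ
      rwa [θ.apply_symm_apply] at this)
    have hmem : φ a ∈ Ideal.span (Set.range fun i => φ (MvPowerSeries.X i)) := by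
      obtain ⟨c, rfl⟩ := Ideal.mem_span_range_iff_exists_fun.1 ham
      simp only [map_sum, map_mul]
      exact Ideal.sum_mem _ fun i _ => Ideal.mul_mem_left _ _ (Ideal.subset_span ⟨i, rfl⟩)
    rw [show (MvPowerSeries.X j : P) = φ a - (φ a - MvPowerSeries.X j) by ring]
    refine sub_mem (Submodule.mem_sup_left hmem) (Submodule.mem_sup_right ?_)
    refine Ideal.span_le.2 (Set.singleton_subset_iff.2 hh2) (Ideal.Quotient.eq.1 ?_)
    rw [hc, ha]
    exact θ.apply_symm_apply _
  let e := AlgEquiv.ofBijective φ hbij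
  -- the equations correspond
  obtain ⟨a, ha⟩ := hbij.2 h
  have ha' : a ∈ Ideal.span {(g : P)} := by
    rw [← Ideal.Quotient.eq_zero_iff_mem]
    apply θ.injective
    rw [map_zero, ← hc, ha, Ideal.Quotient.eq_zero_iff_mem]
    exact Ideal.subset_span rfl
  obtain ⟨r, rfl⟩ := Ideal.mem_span_singleton'.1 ha'
  have hφg : φ (g : P) ∈ 𝔪 ^ 2 := PSLib.map_pow_le φ hφm 2 (Ideal.mem_map_of_mem _ hg)
  let J : Ideal P := Ideal.span (Set.range fun i => MvPowerSeries.pderiv k i (g : P))
  have hpre : 𝔪 ≤ J.map φ ⊔ 𝔪 ^ 2 := by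
    refine le_trans (vars_eq (k := k) (n := n) ▸ (span_pderiv_eq_vars h hh).ge) (Ideal.span_le.2 ?_)
    rintro _ ⟨j, rfl⟩
    show MvPowerSeries.pderiv k j h ∈ _
    rw [← ha, map_mul, Derivation.leibniz, smul_eq_mul, smul_eq_mul]
    refine add_mem ?_ (Submodule.mem_sup_right (Ideal.mul_mem_right _ _ hφg))
    refine Ideal.mul_mem_left _ _ (Submodule.mem_sup_left ?_)
    rw [coe_pderiv_chain]
    refine Ideal.sum_mem _ fun i _ => Ideal.mul_mem_right _ _ (Ideal.mem_map_of_mem _ ?_)
    exact Ideal.subset_span ⟨i, MvPowerSeries.pderiv_coe g⟩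
  have hback : 𝔪 ≤ J ⊔ 𝔪 ^ 2 := by
    intro x hx
    obtain ⟨y, hy, z, hz, hyz⟩ := Submodule.mem_sup.1 (hpre (PSLib.map_pow_le φ hφm 1 (by
      rw [pow_one]; exact Ideal.mem_map_of_mem φ.toRingHom hx) |> fun h => by rwa [pow_one] at h))
    obtain ⟨y', hy', rfl⟩ := (Ideal.mem_map_iff_of_surjective _ hbij.2).1 hy
    have hz' : e.symm z ∈ 𝔪 ^ 2 := by
      have : (maximalIdeal P).map (e.symm : P →+* P) = maximalIdeal P :=
        map_maximalIdeal_of_surjective _ e.symm.surjective
      rw [PSLib.maximalIdeal_eq_vars] at this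
      rw [← this, ← Ideal.map_pow]
      exact Ideal.mem_map_of_mem _ hz
    have hx' : x = y' + e.symm z := hbij.1 (by
      rw [map_add, show φ (e.symm z) = z from e.apply_symm_apply z, hyz]
      rfl)
    rw [hx']
    exact add_mem (Submodule.mem_sup_left hy') (Submodule.mem_sup_right hz')
  have h0 : ∀ i, MvPowerSeries.pderiv k i (g : P) ∈ 𝔪 := fun i => by
    rw [← vars_eq, mem_vars_iff, coeff_zero_pderiv]
    exact (mem_sq_iff.1 (vars_eq (k := k) (n := n) ▸ hg)).2 i
  have := isUnit_det_of_vars_le _ h0 hback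
  simpa only [coeff_single_pderiv] using! this

/-- A local algebra with first order coordinates satisfying exactly one equation completes to the quotient of
power series. -/
theorem exists_completion_equiv (S : Type u) [CommRing S] [IsLocalRing S] [IsNoetherianRing S] [Algebra k S]
    (hres : ∀ s : S, ∃ a : k, s - algebraMap k S a ∈ maximalIdeal S)
    (g : Poly) (hg : (g : P) ∈ 𝔪) (u : Poly →ₐ[k] S)
    (huv : (MvPolynomial.idealOfVars (Fin n) k).map u = maximalIdeal S) (hug : u g = 0)
    (Φ0 : S →ₐ[k] P ⧸ Ideal.span {(g : P)})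
    (hΦ0 : ∀ p : Poly, Φ0 (u p) = Ideal.Quotient.mk _ (p : P)) :
    Nonempty ((P ⧸ Ideal.span {(g : P)}) ≃ₐ[k] AdicCompletion (maximalIdeal S) S) := by
  classical
  let Q := P ⧸ Ideal.span {(g : P)}
  have : IsLocalRing Q := isLocalRing_quot hg
  have : IsAdicComplete (maximalIdeal Q) Q := isAdicComplete_quot
  let Cp := AdicCompletion (maximalIdeal S) S
  have : IsAdicComplete (maximalIdeal Cp) Cp := NodeLib.isAdicComplete_maximalIdeal S
  have : IsNoetherianRing Cp := LC.Canon.isNoetherianRing_completion (R := S)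
  have hmC : maximalIdeal Cp = (maximalIdeal S).map (algebraMap S Cp) := AdicCompletion.maximalIdeal_eq_map
  have hb : ∀ i, algebraMap S Cp (u (MvPolynomial.X i)) ∈ maximalIdeal Cp := fun i => by
    rw [hmC]
    exact Ideal.mem_map_of_mem _ (huv ▸ Ideal.mem_map_of_mem _ (Ideal.subset_span ⟨i, rfl⟩))
  obtain ⟨Ψ, hΨ⟩ := PSLib.exists_algHom (R := k) (maximalIdeal Cp) _ hb
  have hΨp : ∀ p : Poly, Ψ (p : P) = algebraMap S Cp (u p) := by
    intro p
    have : Ψ.comp (MvPolynomial.coeToMvPowerSeries.algHom k) = (IsScalarTower.toAlgHom k S Cp).comp u :=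
      MvPolynomial.algHom_ext fun i => by simp [hΨ]
    simpa using AlgHom.congr_fun this p
  have hsurj : Function.Surjective Ψ := by
    refine PSLib.surjective_of_span (K := k) (n := n) (R := Cp) ?_ Ψ (fun i => (hΨ i).symm ▸ hb i) ?_
    · intro r
      obtain ⟨z, rfl⟩ := IsLocalRing.residue_surjective r
      obtain ⟨s, hs⟩ := Adic7.exists_sub_algebraMap_mem (maximalIdeal S) (IsNoetherian.noetherian _) z 1
      rw [pow_one, ← hmC] at hs
      obtain ⟨a, ha⟩ := hres s
      have h3 : z - algebraMap k Cp a ∈ maximalIdeal Cp := by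
        rw [show z - algebraMap k Cp a =
          (z - algebraMap S Cp s) + algebraMap S Cp (s - algebraMap k S a) by
            rw [map_sub, ← IsScalarTower.algebraMap_apply]; ring]
        exact add_mem hs (hmC ▸ Ideal.mem_map_of_mem _ ha)
      refine ⟨a, ?_⟩
      rw [RingHom.comp_apply, eq_comm, ← sub_eq_zero, ← map_sub, residue_eq_zero_iff]
      exact h3
    · refine le_trans ?_ le_sup_left
      rw [hmC, show (maximalIdeal S).map (algebraMap S Cp) = _ from congrArg (Ideal.map (algebraMap S Cp)) huv.symm]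
      simp only [MvPolynomial.idealOfVars, Ideal.map_span, ← Set.range_comp]
      refine Ideal.span_mono (Set.range_subset_iff.2 fun i => ⟨i, (hΨ i)⟩)
  have hΦm : (maximalIdeal S).map Φ0 ≤ maximalIdeal Q := by
    rw [← huv]
    simp only [MvPolynomial.idealOfVars, Ideal.map_span, Ideal.span_le]
    rintro _ ⟨_, ⟨_, ⟨i, rfl⟩, rfl⟩, rfl⟩
    rw [SetLike.mem_coe, hΦ0, MvPolynomial.coe_X]
    exact mk_mem_maximalIdeal (Ideal.subset_span ⟨i, rfl⟩)
  obtain ⟨Φ, hΦ⟩ := Adic7.exists_lift_completion (R := k) (maximalIdeal S) (maximalIdeal Q) Φ0 hΦm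
  have hX : ∀ i, Φ (Ψ (MvPowerSeries.X i)) = Ideal.Quotient.mk _ (MvPowerSeries.X i) := fun i => by
    rw [hΨ, hΦ, hΦ0, MvPolynomial.coe_X]
  have hcomp : Φ.comp Ψ = Ideal.Quotient.mkₐ k (Ideal.span {(g : P)}) := by
    refine PSLib.algHom_ext (I := maximalIdeal Q) _ _ (fun i => ?_) hX
    rw [AlgHom.comp_apply, hX]
    exact mk_mem_maximalIdeal (Ideal.subset_span ⟨i, rfl⟩)
  have hker : RingHom.ker Ψ = Ideal.span {(g : P)} := by
    refine le_antisymm (fun x hx => ?_) (Ideal.span_le.2 (Set.singleton_subset_iff.2 ?_))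
    · rw [← Ideal.Quotient.eq_zero_iff_mem]
      have := AlgHom.congr_fun hcomp x
      rw [AlgHom.comp_apply, RingHom.mem_ker.1 hx, map_zero] at this
      exact this.symm
    · show Ψ (g : P) = 0
      rw [hΨp, hug, map_zero]
  exact ⟨(Ideal.quotientEquivAlgOfEq k hker.symm).trans (Ideal.quotientKerAlgEquivOfSurjective hsurj)⟩


/-- Nakayama for the maximal ideal. -/
theorem maximalIdeal_le_of_le_sup_sq {S : Type*} [CommRing S] [IsLocalRing S] [IsNoetherianRing S]
    {J : Ideal S} (h : maximalIdeal S ≤ J ⊔ maximalIdeal S ^ 2) : maximalIdeal S ≤ J :=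
  Submodule.le_of_le_smul_of_le_jacobson_bot (IsNoetherian.noetherian _)
    (maximalIdeal_le_jacobson _) (by rwa [smul_eq_mul, ← sq])

section Point

variable (c : Fin n → k)

/-- Moving a point to the origin. -/
noncomputable def shift : Poly ≃ₐ[k] Poly :=
  AlgEquiv.ofAlgHom (MvPolynomial.aeval fun i => MvPolynomial.X i + MvPolynomial.C (c i))
    (MvPolynomial.aeval fun i => MvPolynomial.X i - MvPolynomial.C (c i))
    (MvPolynomial.algHom_ext fun i => by simp)
    (MvPolynomial.algHom_ext fun i => by simp)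

theorem shift_X (i : Fin n) :
    shift c (MvPolynomial.X i) = MvPolynomial.X i + MvPolynomial.C (c i) := by
  simp [shift]

theorem shift_C (a : k) : shift c (MvPolynomial.C a) = MvPolynomial.C a := (shift c).commutes a

theorem coeff_zero_shift (p : Poly) : (shift c p).coeff 0 = MvPolynomial.eval c p := by
  rw [← MvPolynomial.constantCoeff_eq]
  induction p using MvPolynomial.induction_on with
  | C a => simp [shift_C]
  | add p q hp hq => simp [map_add, hp, hq]
  | mul_X p l hp => simp [map_mul, shift_X, hp]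

theorem pderiv_shift (p : Poly) (j : Fin n) :
    MvPolynomial.pderiv j (shift c p) = shift c (MvPolynomial.pderiv j p) := by
  induction p using MvPolynomial.induction_on with
  | C a => simp [shift_C]
  | add p q hp hq => simp [map_add, hp, hq]
  | mul_X p l hp =>
    rcases eq_or_ne l j with rfl | h
    · simp [map_mul, map_add, shift_X, MvPolynomial.pderiv_mul, hp]
    · simp [map_mul, map_add, shift_X, MvPolynomial.pderiv_mul, hp, h]

theorem shift_mem_idealOfVars {p : Poly} (hp : MvPolynomial.eval c p = 0) :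
    shift c p ∈ MvPolynomial.idealOfVars (Fin n) k := by
  rw [← pow_one (MvPolynomial.idealOfVars (Fin n) k), MvPolynomial.mem_pow_idealOfVars_iff']
  intro x hx
  rw [(degree_eq_zero_iff x).1 (by omega), coeff_zero_shift, hp]

end Point

end Groth.Agent.PSQuad
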