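import Groth.Agent.PSLib.Basic
import Groth.Prelude.Def_QuadSing
import Mathlib.RingTheory.AdicCompletion.Basic

/-!
The formal Morse lemma: a series agreeing with a constant plus a non-degenerate quadratic form to order `m ≥ 2` is
carried to it by a change of variables congruent to the identity to order `m`.
-/

namespace Groth.Agent.PSQuad

open Finsupp Matrix

universe u

variable {A : Type u} [CommRing A] {n : ℕ}

local notation "P" => MvPowerSeries (Fin n) A
local notation "𝔪" => PSLib.vars n A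

/-- Entries of a product of matrices. -/
theorem mul_entry_mem {S : Type*} [CommRing S] {ι : Type*} [Fintype ι] {I J : Ideal S}
    {X Y : Matrix ι ι S} (hX : ∀ i j, X i j ∈ I) (hY : ∀ i j, Y i j ∈ J) (i j : ι) :
    (X * Y) i j ∈ I * J := by
  rw [Matrix.mul_apply]
  exact Ideal.sum_mem _ fun l _ => Ideal.mul_mem_mul (hX i l) (hY l j)

theorem exists_sum_X_mul {N : ℕ} {f : P} (hf : f ∈ 𝔪 ^ (N + 1)) :
    ∃ r : Fin n → P, (∀ i, r i ∈ 𝔪 ^ N) ∧ f = ∑ i, MvPowerSeries.X i * r i := by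
  rw [pow_succ'] at hf
  refine Submodule.mul_induction_on hf ?_ ?_
  · intro a ha b hb
    obtain ⟨c, rfl⟩ := Ideal.mem_span_range_iff_exists_fun.1 ha
    refine ⟨fun i => c i * b, fun i => Ideal.mul_mem_left _ _ hb, ?_⟩
    rw [Finset.sum_mul]
    exact Finset.sum_congr rfl fun i _ => by ring
  · rintro a b ⟨r, hr, rfl⟩ ⟨s, hs, rfl⟩
    refine ⟨fun i => r i + s i, fun i => add_mem (hr i) (hs i), ?_⟩
    rw [← Finset.sum_add_distrib]
    exact Finset.sum_congr rfl fun i _ => by ring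

/-- Solving `M G + Gᵀ U G = S` for small `S`. -/
theorem exists_solution (U M : Matrix (Fin n) (Fin n) P) (hM : IsUnit M.det) {N : ℕ}
    (S : Matrix (Fin n) (Fin n) P) (hS : ∀ i j, S i j ∈ 𝔪 ^ (N + 1)) :
    ∃ G : Matrix (Fin n) (Fin n) P, (∀ i j, G i j ∈ 𝔪 ^ (N + 1)) ∧ M * G + Gᵀ * U * G = S := by
  classical
  let K : Ideal P := 𝔪 ^ (N + 1)
  let T : Matrix (Fin n) (Fin n) P → Matrix (Fin n) (Fin n) P := fun G => M⁻¹ * (S - Gᵀ * U * G)
  have hmem : ∀ {X : Matrix (Fin n) (Fin n) P} {Y : Matrix (Fin n) (Fin n) P} {J : Ideal P},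
      (∀ i j, Y i j ∈ J) → ∀ i j, (X * Y) i j ∈ J := fun {X Y J} hY i j => by
    rw [Matrix.mul_apply]
    exact Ideal.sum_mem _ fun l _ => Ideal.mul_mem_left _ _ (hY l j)
  have hmem' : ∀ {X : Matrix (Fin n) (Fin n) P} {Y : Matrix (Fin n) (Fin n) P} {J : Ideal P},
      (∀ i j, X i j ∈ J) → ∀ i j, (X * Y) i j ∈ J := fun {X Y J} hX i j => by
    rw [Matrix.mul_apply]
    exact Ideal.sum_mem _ fun l _ => Ideal.mul_mem_right _ _ (hX i l)
  let g : ℕ → Matrix (Fin n) (Fin n) P := fun l => T^[l] 0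
  have hT : ∀ {G : Matrix (Fin n) (Fin n) P}, (∀ i j, G i j ∈ K) → ∀ i j, T G i j ∈ K := fun {G} hG =>
    hmem fun i j => by
      rw [Matrix.sub_apply]
      exact sub_mem (hS i j) (hmem hG i j)
  have hg : ∀ l i j, g l i j ∈ K := by
    intro l
    induction l with
    | zero => intro i j; exact zero_mem _
    | succ l ih =>
      simp only [g, Function.iterate_succ', Function.comp_apply]
      exact hT ih
  have hcontr : ∀ {G G' : Matrix (Fin n) (Fin n) P} {l : ℕ}, (∀ i j, G i j ∈ 𝔪) → (∀ i j, G' i j ∈ 𝔪) →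
      (∀ i j, G i j - G' i j ∈ 𝔪 ^ l) → ∀ i j, T G i j - T G' i j ∈ 𝔪 ^ (l + 1) := by
    intro G G' l hG hG' hd i j
    have e : T G - T G' = M⁻¹ * ((G' - G)ᵀ * (U * G') + Gᵀ * U * (G' - G)) := by
      simp only [T, Matrix.transpose_sub, Matrix.mul_sub, Matrix.sub_mul, Matrix.mul_add, Matrix.mul_assoc]
      abel
    rw [← Matrix.sub_apply, e]
    refine hmem (fun a b => ?_) i j
    rw [Matrix.add_apply]
    have hd' : ∀ i j, (G' - G) i j ∈ 𝔪 ^ l := fun i j => by
      rw [Matrix.sub_apply, ← neg_sub]; exact neg_mem (hd i j)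
    refine add_mem ?_ ?_
    · rw [pow_succ]
      exact mul_entry_mem (fun i j => hd' j i) (hmem hG') a b
    · rw [pow_succ']
      exact mul_entry_mem (hmem' fun i j => hG j i) hd' a b
  have hK : K ≤ 𝔪 := Ideal.pow_le_self (Nat.succ_ne_zero N)
  have hstep : ∀ l i j, g (l + 1) i j - g l i j ∈ 𝔪 ^ l := by
    intro l
    induction l with
    | zero => intro i j; simp
    | succ l ih =>
      intro i j
      have e1 : g (l + 1 + 1) i j = T (g (l + 1)) i j :=
        congrFun (congrFun (Function.iterate_succ_apply' T (l + 1) 0) i) j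
      have e2 : g (l + 1) i j = T (g l) i j :=
        congrFun (congrFun (Function.iterate_succ_apply' T l 0) i) j
      rw [e1, e2]
      exact hcontr (fun i j => hK (hg (l + 1) i j)) (fun i j => hK (hg l i j)) ih i j
  have hcauchy : ∀ i j {a b : ℕ}, a ≤ b → g b i j - g a i j ∈ 𝔪 ^ a := by
    intro i j a b hab
    induction b, hab using Nat.le_induction with
    | base => simp
    | succ b hab ih =>
      rw [← sub_add_sub_cancel (g (b + 1) i j) (g b i j) (g a i j)]
      exact add_mem (Ideal.pow_le_pow_right hab (hstep b i j)) ih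
  have hlim : ∀ i j, ∃ L : P, ∀ l, g l i j ≡ L [SMOD (𝔪 ^ l • ⊤ : Submodule P P)] := fun i j => by
    refine IsPrecomplete.prec (I := 𝔪) inferInstance fun {a b} hab => ?_
    rw [SModEq.sub_mem, smul_eq_mul, Ideal.mul_top, ← neg_sub]
    exact neg_mem (hcauchy i j hab)
  choose G hG using hlim
  have hGl : ∀ l i j, g l i j - G i j ∈ 𝔪 ^ l := fun l i j => by
    have := hG i j l
    rwa [SModEq.sub_mem, smul_eq_mul, Ideal.mul_top] at this
  have hGK : ∀ i j, G i j ∈ K := fun i j => by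
    rw [← sub_sub_self (g (N + 1) i j) (G i j)]
    exact sub_mem (hg _ i j) (hGl (N + 1) i j)
  have hfix : T G = G := by
    refine Matrix.ext fun i j => sub_eq_zero.1 (PSLib.eq_zero_of_forall_mem_pow fun l => ?_)
    have h1 := hcontr (fun i j => hK (hGK i j)) (fun i j => hK (hg l i j))
      (fun i j => by rw [← neg_sub]; exact neg_mem (hGl l i j)) i j
    have h2 := hGl (l + 1) i j
    simp only [g, Function.iterate_succ', Function.comp_apply] at h2 h1
    rw [← sub_add_sub_cancel (T G i j) (T (T^[l] 0) i j) (G i j)]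
    exact Ideal.pow_le_pow_right (Nat.le_succ l) (add_mem h1 h2)
  refine ⟨G, hGK, ?_⟩
  have h := congrArg (M * ·) hfix
  simp only [T, ← Matrix.mul_assoc, Matrix.mul_nonsing_inv M hM, Matrix.one_mul] at h
  rw [← h, sub_add_cancel]

/-- Endomorphisms preserve the constant term. -/
theorem map_mem_vars (φ : P →ₐ[A] P) (h : ∀ i, φ (MvPowerSeries.X i) ∈ 𝔪) {f : P} (hf : f ∈ 𝔪) :
    φ f ∈ 𝔪 := by
  have := PSLib.map_pow_le φ h 1
  rw [pow_one] at this
  exact this (Ideal.mem_map_of_mem _ hf)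

/-- The formal Morse lemma. -/
theorem exists_morse {N : ℕ} (q : Fin n → Fin n → A) (hq : VanCyc.QuadNondeg q) (a : A) (F : P)
    (hF : F - ((VanCyc.quadPoly q + MvPolynomial.C a : MvPolynomial (Fin n) A) : P) ∈ 𝔪 ^ (N + 3)) :
    ∃ ψ : P ≃ₐ[A] P, (∀ i, ψ (MvPowerSeries.X i) - MvPowerSeries.X i ∈ 𝔪 ^ (N + 2)) ∧
      ψ F = ((VanCyc.quadPoly q + MvPolynomial.C a : MvPolynomial (Fin n) A) : P) := by
  classical
  set Q : P := ((VanCyc.quadPoly q + MvPolynomial.C a : MvPolynomial (Fin n) A) : P) with hQdef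
  let x : Fin n → P := MvPowerSeries.X
  let U : Matrix (Fin n) (Fin n) P := fun i j => if i ≤ j then MvPowerSeries.C (q i j) else 0
  let M : Matrix (Fin n) (Fin n) P := U + Uᵀ
  have hQ : Q = x ⬝ᵥ (U *ᵥ x) + MvPowerSeries.C a := by
    simp only [hQdef, MvPolynomial.coe_add, MvPolynomial.coe_C, VanCyc.quadPoly, dotProduct, Matrix.mulVec]
    congr 1
    rw [← MvPolynomial.coeToMvPowerSeries.ringHom_apply, map_sum]
    refine Finset.sum_congr rfl fun i _ => ?_
    rw [map_sum, Finset.mul_sum]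
    refine Finset.sum_congr rfl fun j _ => ?_
    simp only [U, x]
    split_ifs with h
    · simp only [MvPolynomial.coeToMvPowerSeries.ringHom_apply, MvPolynomial.coe_mul,
        MvPolynomial.coe_C, MvPolynomial.coe_X]
      ring
    · simp
  have hMdet : IsUnit M.det := by
    have hM : M = (VanCyc.polarMatrix q).map (MvPowerSeries.C (σ := Fin n) (R := A)) := by
      ext i j
      simp only [M, U, Matrix.add_apply, Matrix.transpose_apply, Matrix.map_apply, VanCyc.polarMatrix]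
      rcases lt_trichotomy i j with h | h | h
      · simp [h.le, not_le.2 h, h.ne, h]
      · subst h; simp [two_mul]
      · simp [h.le, not_le.2 h, h.ne', not_lt.2 h.le]
    rw [hM, ← RingHom.mapMatrix_apply, ← RingHom.map_det]
    exact hq.map _
  obtain ⟨r, hr, hrF⟩ := exists_sum_X_mul hF
  choose s hs hsr using fun i => exists_sum_X_mul (hr i)
  let S : Matrix (Fin n) (Fin n) P := fun i j => s i j
  have hR : F - Q = x ⬝ᵥ (S *ᵥ x) := by
    rw [hrF]
    simp only [dotProduct, Matrix.mulVec, S, x]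
    refine Finset.sum_congr rfl fun i _ => ?_
    rw [hsr i]
    congr 1
    exact Finset.sum_congr rfl fun j _ => by ring
  obtain ⟨G, hG, hGS⟩ := exists_solution U M hMdet (N := N) S hs
  let h : Fin n → P := G *ᵥ x
  have hh : ∀ i, h i ∈ 𝔪 ^ (N + 2) := fun i => by
    show ∑ j, G i j * x j ∈ _
    rw [pow_succ]
    exact Ideal.sum_mem _ fun j _ => Ideal.mul_mem_mul (hG i j) (Ideal.subset_span ⟨j, rfl⟩)
  have hy : ∀ i, x i + h i ∈ 𝔪 := fun i =>
    add_mem (Ideal.subset_span ⟨i, rfl⟩) (Ideal.pow_le_self (Nat.succ_ne_zero _) (hh i))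
  obtain ⟨φ, hφ⟩ := PSLib.exists_algHom (R := A) 𝔪 (fun i => x i + h i) hy
  have hφm : ∀ i, φ (MvPowerSeries.X i) ∈ 𝔪 := fun i => by rw [hφ]; exact hy i
  have hbij : Function.Bijective φ := by
    refine PSLib.bijective_of_first_order φ hφm fun j => ?_
    rw [show MvPowerSeries.X j = φ (MvPowerSeries.X j) - h j by rw [hφ]; simp [x]]
    exact sub_mem (Submodule.mem_sup_left (Ideal.subset_span ⟨j, rfl⟩))
      (Submodule.mem_sup_right (Ideal.pow_le_pow_right (by omega) (hh j)))
  have hφQ : φ Q = F := by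
    have hU : ∀ i j, φ (U i j) = U i j := fun i j => by
      simp only [U]
      split_ifs
      · exact φ.commutes _
      · exact map_zero φ
    have h1 : φ Q = (x + h) ⬝ᵥ (U *ᵥ (x + h)) + MvPowerSeries.C a := by
      rw [hQ, map_add]
      congr 1
      · simp only [dotProduct, Matrix.mulVec, map_sum, map_mul, hU, Pi.add_apply]
        simp only [x, hφ]
      · exact φ.commutes _
    rw [h1, eq_add_of_sub_eq hR, hQ, ← hGS]
    simp only [M, h, Matrix.mulVec_add, add_dotProduct, dotProduct_add, Matrix.add_mulVec,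
      Matrix.add_mul, ← Matrix.mulVec_mulVec]
    have t1 : (G *ᵥ x) ⬝ᵥ (U *ᵥ x) = x ⬝ᵥ (Uᵀ *ᵥ (G *ᵥ x)) := by
      rw [Matrix.mulVec_transpose, dotProduct_comm x, ← Matrix.dotProduct_mulVec]
    have t2 : (G *ᵥ x) ⬝ᵥ (U *ᵥ (G *ᵥ x)) = x ⬝ᵥ (Gᵀ *ᵥ (U *ᵥ (G *ᵥ x))) := by
      rw [Matrix.mulVec_transpose, dotProduct_comm x, ← Matrix.dotProduct_mulVec, dotProduct_comm]
    rw [t1, t2]
    abel
  let e := AlgEquiv.ofBijective φ hbij
  have hψm : ∀ i, e.symm (MvPowerSeries.X i) ∈ 𝔪 := fun i => by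
    set f := e.symm (MvPowerSeries.X i)
    have h0 : f - MvPowerSeries.C (MvPowerSeries.constantCoeff f) ∈ 𝔪 := by
      rw [PSLib.mem_vars_iff]; simp
    have h1 := map_mem_vars φ hφm h0
    have hf : φ f = MvPowerSeries.X i := e.apply_symm_apply _
    have hc : φ (MvPowerSeries.C (MvPowerSeries.constantCoeff f)) =
        MvPowerSeries.C (MvPowerSeries.constantCoeff f) := φ.commutes _
    rw [map_sub, hf, hc, PSLib.mem_vars_iff] at h1
    simp only [map_sub, MvPowerSeries.constantCoeff_X, MvPowerSeries.constantCoeff_C, zero_sub,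
      neg_eq_zero] at h1
    rw [PSLib.mem_vars_iff]
    exact h1
  refine ⟨e.symm, fun i => ?_, ?_⟩
  · have h1 : e.symm (h i) ∈ 𝔪 ^ (N + 2) :=
      PSLib.map_pow_le (e.symm : P →ₐ[A] P) hψm _ (Ideal.mem_map_of_mem _ (hh i))
    have h2 : MvPowerSeries.X i = e.symm (MvPowerSeries.X i) + e.symm (h i) := by
      rw [← map_add]
      exact (e.symm_apply_apply (MvPowerSeries.X i)).symm.trans (congrArg e.symm (hφ i))
    nth_rewrite 2 [h2]
    rw [sub_add_cancel_left]
    exact neg_mem h1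
  · exact e.injective ((e.apply_symm_apply F).trans hφQ.symm)

end Groth.Agent.PSQuad
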