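import Groth.Agent.PSQuad.Grad
import Mathlib.RingTheory.MvPowerSeries.Evaluation
import Mathlib.RingTheory.MvPowerSeries.LinearTopology
import Mathlib.RingTheory.AdicCompletion.Topology
import Mathlib.Topology.Algebra.Nonarchimedean.AdicTopology

/-!
Critical point and translation for power series over a complete local ring.
-/

namespace Groth.Agent.PSQuad

open Finsupp IsLocalRing

universe u

variable {A : Type u} [CommRing A] [IsLocalRing A] [IsAdicComplete (maximalIdeal A) A] {n : ℕ}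

local notation "P" => MvPowerSeries (Fin n) A
local notation "𝔪" => maximalIdeal A

/-- A polynomial evaluated at two nearby small points. -/
theorem eval_sub_eval_mem (J : Ideal A) (c d : Fin n → A) (hc : ∀ i, c i ∈ 𝔪) (hd : ∀ i, d i ∈ 𝔪)
    (hcd : ∀ i, c i - d i ∈ J) (p : MvPolynomial (Fin n) A) :
    MvPolynomial.eval c p - p.coeff 0 ∈ 𝔪 ∧ MvPolynomial.eval c p - MvPolynomial.eval d p ∈ J ∧
      MvPolynomial.eval c p - MvPolynomial.eval d p -
        ∑ i, p.coeff (single i 1) * (c i - d i) ∈ 𝔪 * J := by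
  classical
  induction p using MvPolynomial.induction_on with
  | C a => simp [MvPolynomial.coeff_C, eq_comm (a := (0 : Fin n →₀ ℕ))]
  | add p q hp hq =>
    simp only [map_add, MvPolynomial.coeff_add, add_mul, Finset.sum_add_distrib]
    refine ⟨?_, ?_, ?_⟩
    · convert add_mem hp.1 hq.1 using 1; ring
    · convert add_mem hp.2.1 hq.2.1 using 1; ring
    · convert add_mem hp.2.2 hq.2.2 using 1; ring
  | mul_X p l hp =>
    obtain ⟨h1, h2, h3⟩ := hp
    have h0 : (p * MvPolynomial.X l).coeff 0 = 0 := by simp [MvPolynomial.coeff_mul_X']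
    have hs : ∑ i, (p * MvPolynomial.X l).coeff (single i 1) * (c i - d i) =
        p.coeff 0 * (c l - d l) := by
      rw [Finset.sum_eq_single l]
      · simp [MvPolynomial.coeff_mul_X']
      · intro b _ hb
        simp [MvPolynomial.coeff_mul_X', Finsupp.single_apply, Ne.symm hb, hb]
      · simp
    simp only [map_mul, MvPolynomial.eval_X, h0, hs, sub_zero]
    refine ⟨Ideal.mul_mem_left _ _ (hc l), ?_, ?_⟩
    · rw [show MvPolynomial.eval c p * c l - MvPolynomial.eval d p * d l =
        MvPolynomial.eval c p * (c l - d l) + (MvPolynomial.eval c p - MvPolynomial.eval d p) * d l by ring]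
      exact add_mem (Ideal.mul_mem_left _ _ (hcd l)) (Ideal.mul_mem_right _ _ h2)
    · rw [show MvPolynomial.eval c p * c l - MvPolynomial.eval d p * d l - p.coeff 0 * (c l - d l) =
        (MvPolynomial.eval c p - p.coeff 0) * (c l - d l) +
          d l * (MvPolynomial.eval c p - MvPolynomial.eval d p) by ring]
      exact add_mem (Ideal.mul_mem_mul h1 (hcd l)) (Ideal.mul_mem_mul (hd l) h2)

/-- Evaluation at a small point. -/
noncomputable def ev (c : Fin n → A) (hc : ∀ i, c i ∈ 𝔪) : P →ₐ[A] A :=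
  (PSLib.exists_algHom 𝔪 c hc).choose

theorem ev_X (c : Fin n → A) (hc : ∀ i, c i ∈ 𝔪) (i : Fin n) : ev c hc (MvPowerSeries.X i) = c i :=
  (PSLib.exists_algHom 𝔪 c hc).choose_spec i

theorem ev_coe (c : Fin n → A) (hc : ∀ i, c i ∈ 𝔪) (p : MvPolynomial (Fin n) A) :
    ev c hc (p : P) = MvPolynomial.eval c p := by
  have : (ev c hc).comp (MvPolynomial.coeToMvPowerSeries.algHom A) = MvPolynomial.aeval c :=
    MvPolynomial.algHom_ext fun i => by simp [ev_X]
  simpa using AlgHom.congr_fun this p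

theorem ev_mem_pow (c : Fin n → A) (hc : ∀ i, c i ∈ 𝔪) {N : ℕ} {f : P}
    (hf : f ∈ PSLib.vars n A ^ N) : ev c hc f ∈ 𝔪 ^ N :=
  PSLib.map_pow_le (ev c hc) (fun i => (ev_X c hc i).symm ▸ hc i) N (Ideal.mem_map_of_mem _ hf)

/-- Evaluation is congruent to the constant term. -/
theorem ev_sub_mem (c : Fin n → A) (hc : ∀ i, c i ∈ 𝔪) (G : P) :
    ev c hc G - MvPowerSeries.coeff 0 G ∈ 𝔪 := by
  obtain ⟨p, hp⟩ := PSLib.exists_polynomial_sub_mem G 1
  have h1 := ev_mem_pow c hc hp
  rw [pow_one, map_sub, ev_coe] at h1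
  have h2 := PSLib.coeff_eq_zero_of_mem_pow 1 _ hp 0 (by simp)
  rw [map_sub, MvPolynomial.coeff_coe, sub_eq_zero] at h2
  rw [h2]
  have h3 := (eval_sub_eval_mem ⊤ c c hc hc (fun _ => trivial) p).1
  convert add_mem h1 h3 using 1
  ring

/-- First order expansion of the evaluation. -/
theorem ev_sub_ev_mem {l : ℕ} (c d : Fin n → A) (hc : ∀ i, c i ∈ 𝔪) (hd : ∀ i, d i ∈ 𝔪)
    (hcd : ∀ i, c i - d i ∈ 𝔪 ^ l) (G : P) :
    ev c hc G - ev d hd G - ∑ i, MvPowerSeries.coeff (single i 1) G * (c i - d i) ∈ 𝔪 ^ (l + 1) := by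
  obtain ⟨p, hp⟩ := PSLib.exists_polynomial_sub_mem G (l + 2)
  have h1 := Ideal.pow_le_pow_right (Nat.le_succ (l + 1)) (ev_mem_pow c hc hp)
  have h2 := Ideal.pow_le_pow_right (Nat.le_succ (l + 1)) (ev_mem_pow d hd hp)
  rw [map_sub, ev_coe] at h1 h2
  have h3 : ∀ i, MvPowerSeries.coeff (single i 1) G = p.coeff (single i 1) := fun i => by
    have := PSLib.coeff_eq_zero_of_mem_pow _ _ hp (single i 1) (by simp [degree_single])
    rwa [map_sub, MvPolynomial.coeff_coe, sub_eq_zero] at this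
  simp only [h3]
  have h4 := (eval_sub_eval_mem (𝔪 ^ l) c d hc hd hcd p).2.2
  rw [← pow_succ'] at h4
  convert add_mem (sub_mem h1 h2) h4 using 1
  ring

/-- The critical point. -/
theorem exists_critical (F : P) (hlin : ∀ i, MvPowerSeries.coeff (single i 1) F ∈ 𝔪)
    (hq : VanCyc.QuadNondeg (VanCyc.quadPart F)) :
    ∃ (c : Fin n → A) (hc : ∀ i, c i ∈ 𝔪), ∀ j, ev c hc (MvPowerSeries.pderiv A j F) = 0 := by
  classical
  set M := VanCyc.polarMatrix (VanCyc.quadPart F) with hMdef
  let Sm := {c : Fin n → A // ∀ i, c i ∈ 𝔪}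
  let g : Sm → Fin n → A := fun c j => ev c.1 c.2 (MvPowerSeries.pderiv A j F)
  have hg0 : ∀ c j, g c j ∈ 𝔪 := fun c j => by
    have h := ev_sub_mem c.1 c.2 (MvPowerSeries.pderiv A j F)
    rw [coeff_zero_pderiv] at h
    have := add_mem h (hlin j)
    rwa [sub_add_cancel] at this
  have hvec : ∀ {J : Ideal A} (X : Matrix (Fin n) (Fin n) A) {v : Fin n → A}, (∀ i, v i ∈ J) →
      ∀ i, X.mulVec v i ∈ J :=
    fun X v hv i => by
      show ∑ j, X i j * v j ∈ _
      exact Ideal.sum_mem _ fun j _ => Ideal.mul_mem_left _ _ (hv j)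
  let T : Sm → Sm := fun c => ⟨fun i => c.1 i - M⁻¹.mulVec (g c) i,
    fun i => sub_mem (c.2 i) (hvec _ (hg0 c) i)⟩
  have hcontr : ∀ (c d : Sm) (l : ℕ), (∀ i, c.1 i - d.1 i ∈ 𝔪 ^ l) →
      ∀ i, (T c).1 i - (T d).1 i ∈ 𝔪 ^ (l + 1) := by
    intro c d l hcd i
    let δ : Fin n → A := fun i => c.1 i - d.1 i
    have h : ∀ j, g c j - g d j - M.mulVec δ j ∈ 𝔪 ^ (l + 1) := fun j => by
      have := ev_sub_ev_mem c.1 d.1 c.2 d.2 hcd (MvPowerSeries.pderiv A j F)
      simp only [coeff_single_pderiv] at this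
      exact this
    have e : (T c).1 i - (T d).1 i = -(M⁻¹.mulVec (g c - g d - M.mulVec δ) i) := by
      rw [Matrix.mulVec_sub, Matrix.mulVec_sub, Matrix.mulVec_mulVec, Matrix.nonsing_inv_mul _ hq,
        Matrix.one_mulVec]
      simp only [T, δ, Pi.sub_apply]
      ring
    rw [e]
    exact neg_mem (hvec _ h i)
  let s : ℕ → Sm := fun l => T^[l] ⟨0, fun _ => zero_mem _⟩
  have hstep : ∀ l i, (s (l + 1)).1 i - (s l).1 i ∈ 𝔪 ^ l := by
    intro l
    induction l with
    | zero => intro i; simp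
    | succ l ih =>
      intro i
      simp only [s, Function.iterate_succ', Function.comp_apply] at ih ⊢
      exact hcontr _ _ l ih i
  have hcauchy : ∀ i {a b : ℕ}, a ≤ b → (s b).1 i - (s a).1 i ∈ 𝔪 ^ a := by
    intro i a b hab
    induction b, hab using Nat.le_induction with
    | base => simp
    | succ b hab ih =>
      rw [← sub_add_sub_cancel ((s (b + 1)).1 i) ((s b).1 i) ((s a).1 i)]
      exact add_mem (Ideal.pow_le_pow_right hab (hstep b i)) ih
  have hlim : ∀ i, ∃ L : A, ∀ l, (s l).1 i ≡ L [SMOD (𝔪 ^ l • ⊤ : Submodule A A)] := fun i => by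
    refine IsPrecomplete.prec (I := 𝔪) inferInstance fun {a b} hab => ?_
    rw [SModEq.sub_mem, smul_eq_mul, Ideal.mul_top, ← neg_sub]
    exact neg_mem (hcauchy i hab)
  choose c hc' using hlim
  have hcl : ∀ l i, (s l).1 i - c i ∈ 𝔪 ^ l := fun l i => by
    have := hc' i l
    rwa [SModEq.sub_mem, smul_eq_mul, Ideal.mul_top] at this
  have hc : ∀ i, c i ∈ 𝔪 := fun i => by
    have := sub_mem ((s 1).2 i) (by simpa using hcl 1 i : (s 1).1 i - c i ∈ 𝔪)
    simpa using this
  have hfix : ∀ i, (T ⟨c, hc⟩).1 i = c i := fun i => by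
    refine sub_eq_zero.1 (IsHausdorff.haus (I := 𝔪) (M := A) inferInstance _ fun l => ?_)
    rw [SModEq.zero, smul_eq_mul, Ideal.mul_top]
    have h1 := hcontr ⟨c, hc⟩ (s l) l (fun i => by rw [← neg_sub]; exact neg_mem (hcl l i)) i
    have h2 := hcl (l + 1) i
    simp only [s, Function.iterate_succ', Function.comp_apply] at h1 h2
    rw [← sub_add_sub_cancel _ ((T (T^[l] ⟨0, fun _ => zero_mem _⟩)).1 i)]
    exact Ideal.pow_le_pow_right (Nat.le_succ l) (add_mem h1 h2)
  refine ⟨c, hc, fun j => ?_⟩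
  have h0 : M⁻¹.mulVec (g ⟨c, hc⟩) = 0 := funext fun i => by
    have := hfix i
    simp only [T] at this
    simpa using this
  have := congrArg M.mulVec h0
  rw [Matrix.mulVec_mulVec, Matrix.mul_nonsing_inv _ hq, Matrix.one_mulVec, Matrix.mulVec_zero] at this
  exact congrFun this j

open MvPowerSeries.WithPiTopology in
/-- Translation by a small vector. -/
theorem exists_translation (c : Fin n → A) (hc : ∀ i, c i ∈ 𝔪) :
    ∃ τ : P ≃ₐ[A] P, ∀ F : P, MvPowerSeries.coeff 0 (τ F) = ev c hc F ∧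
      (∀ j, MvPowerSeries.coeff (single j 1) (τ F) = ev c hc (MvPowerSeries.pderiv A j F)) ∧
      ∀ j, MvPowerSeries.pderiv A j (τ F) = τ (MvPowerSeries.pderiv A j F) := by
  classical
  letI : WithIdeal A := ⟨𝔪⟩
  have hadic : IsAdic (𝔪 : Ideal A) := rfl
  obtain ⟨hcomp, ht2⟩ := hadic.isAdicComplete_iff.1 inferInstance
  let v : (Fin n → A) → Fin n → P := fun c i => MvPowerSeries.X i + MvPowerSeries.C (c i)
  have hev : ∀ c : Fin n → A, (∀ i, c i ∈ 𝔪) → MvPowerSeries.HasEval (v c) := by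
    intro c hc
    refine ⟨fun i => MvPowerSeries.LinearTopology.isTopologicallyNilpotent_of_constantCoeff ?_, ?_⟩
    · show Filter.Tendsto (fun m => (MvPowerSeries.constantCoeff (v c i)) ^ m) Filter.atTop (nhds 0)
      rw [(Ideal.hasBasis_nhds_zero_adic (maximalIdeal A)).tendsto_right_iff]
      intro N _
      filter_upwards [Filter.eventually_ge_atTop N] with m hm
      simp only [v, map_add, MvPowerSeries.constantCoeff_X, MvPowerSeries.constantCoeff_C, zero_add]
      exact Ideal.pow_le_pow_right hm (Ideal.pow_mem_pow (hc i) m)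
    · rw [Filter.cofinite_eq_bot]
      exact Filter.tendsto_bot
  have hcneg : ∀ i, (-c) i ∈ 𝔪 := fun i => neg_mem (hc i)
  let τ : P →ₐ[A] P := MvPowerSeries.aeval (hev c hc)
  let τ' : P →ₐ[A] P := MvPowerSeries.aeval (hev (-c) hcneg)
  have hτc : Continuous τ := MvPowerSeries.continuous_aeval _
  have hτ'c : Continuous τ' := MvPowerSeries.continuous_aeval _
  have hτp : ∀ p : MvPolynomial (Fin n) A, τ (p : P) = MvPolynomial.aeval (v c) p :=
    fun p => MvPowerSeries.aeval_coe _ p
  have hτ'p : ∀ p : MvPolynomial (Fin n) A, τ' (p : P) = MvPolynomial.aeval (v (-c)) p :=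
    fun p => MvPowerSeries.aeval_coe _ p
  have hext : ∀ {f g : P → P}, Continuous f → Continuous g →
      (∀ p : MvPolynomial (Fin n) A, f p = g p) → f = g := fun hf hg h =>
    DenseRange.equalizer MvPowerSeries.WithPiTopology.denseRange_toMvPowerSeries hf hg (funext h)
  have hid : ∀ (σ₁ σ₂ : P →ₐ[A] P), Continuous σ₁ → Continuous σ₂ →
      (∀ i, σ₁ (σ₂ (MvPowerSeries.X i)) = MvPowerSeries.X i) → ∀ f, σ₁ (σ₂ f) = f := by
    intro σ₁ σ₂ h1 h2 hX
    refine congrFun (hext (h1.comp h2) continuous_id fun p => ?_)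
    have : (σ₁.comp σ₂).comp (MvPolynomial.coeToMvPowerSeries.algHom A) =
        MvPolynomial.coeToMvPowerSeries.algHom A :=
      MvPolynomial.algHom_ext fun i => by simpa using hX i
    simpa using AlgHom.congr_fun this p
  have hvX : ∀ i, τ (MvPowerSeries.X i) = v c i := fun i => by
    rw [← MvPolynomial.coe_X, hτp, MvPolynomial.aeval_X]
  have hvX' : ∀ i, τ' (MvPowerSeries.X i) = v (-c) i := fun i => by
    rw [← MvPolynomial.coe_X, hτ'p, MvPolynomial.aeval_X]
  have hCc : ∀ (σ₁ : P →ₐ[A] P) (a : A), σ₁ (MvPowerSeries.C a) = MvPowerSeries.C a :=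
    fun σ₁ a => σ₁.commutes a
  let e : P ≃ₐ[A] P := AlgEquiv.ofAlgHom τ τ'
    (AlgHom.ext (hid τ τ' hτc hτ'c fun i => by simp [hvX', v, map_sub, map_add, hvX, hCc]))
    (AlgHom.ext (hid τ' τ hτ'c hτc fun i => by simp [hvX, v, map_sub, map_add, hvX', hCc]))
  refine ⟨e, fun F => ?_⟩
  have hconst : ∀ G : P, MvPowerSeries.coeff 0 (τ G) = ev c hc G := by
    have h1 : ((MvPowerSeries.constantCoeff : P →+* A)).comp (τ : P →+* P) =
        ((ev c hc : P →ₐ[A] A) : P →+* A) := by
      let φ : P →ₐ[A] A :=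
        { (MvPowerSeries.constantCoeff : P →+* A).comp (τ : P →+* P) with
          commutes' := fun a => by
            show MvPowerSeries.constantCoeff (τ (algebraMap A P a)) = a
            rw [τ.commutes]
            simp [MvPowerSeries.algebraMap_apply] }
      have : φ = ev c hc := PSLib.algHom_ext (I := 𝔪) φ _ (fun i => ?_) (fun i => ?_)
      · exact congrArg AlgHom.toRingHom this
      · show MvPowerSeries.constantCoeff (τ (MvPowerSeries.X i)) ∈ 𝔪
        simpa [hvX, v] using hc i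
      · show MvPowerSeries.constantCoeff (τ (MvPowerSeries.X i)) = _
        simp [hvX, v, ev_X]
    intro G
    rw [MvPowerSeries.coeff_zero_eq_constantCoeff_apply]
    exact RingHom.congr_fun h1 G
  have hchain : ∀ (j : Fin n) (G : P),
      MvPowerSeries.pderiv A j (τ G) = τ (MvPowerSeries.pderiv A j G) := by
    intro j
    have hD : Continuous (MvPowerSeries.pderiv A j : P → P) := by
      refine continuous_pi fun d => ?_
      show Continuous fun f : P => MvPowerSeries.coeff d (MvPowerSeries.pderiv A j f)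
      simp only [MvPowerSeries.coeff_pderiv]
      exact (MvPowerSeries.WithPiTopology.continuous_coeff A _).mul continuous_const
    refine congrFun (hext (hD.comp hτc) (hτc.comp hD) fun p => ?_)
    show MvPowerSeries.pderiv A j (τ (p : P)) = τ (MvPowerSeries.pderiv A j (p : P))
    rw [MvPowerSeries.pderiv_coe, hτp, hτp]
    induction p using MvPolynomial.induction_on with
    | C a => simp [MvPowerSeries.algebraMap_apply]
    | add p q hp hq => simp [map_add, hp, hq]
    | mul_X p l hp =>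
      have : MvPowerSeries.pderiv A j (v c l) =
          MvPolynomial.aeval (v c) ((Pi.single j 1 : Fin n → MvPolynomial (Fin n) A) l) := by
        simp only [v, map_add, MvPowerSeries.pderiv_C, add_zero, MvPowerSeries.pderiv_X]
        rcases eq_or_ne j l with rfl | h
        · simp
        · simp [h, Ne.symm h]
      rw [map_mul, MvPolynomial.aeval_X, Derivation.leibniz, hp, this, MvPolynomial.pderiv_mul,
        MvPolynomial.pderiv_X]
      simp only [map_add, map_mul, MvPolynomial.aeval_X, smul_eq_mul]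
      ring
  refine ⟨hconst F, fun j => ?_, fun j => hchain j F⟩
  show MvPowerSeries.coeff (single j 1) (τ F) = _
  rw [← coeff_zero_pderiv, hchain, hconst]

end Groth.Agent.PSQuad
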